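import Mathlib
import Groth.Prelude.Def_CAlgX

/-!
# The smooth locus of a generic determinantal ring
-/

set_option autoImplicit false
set_option linter.style.haveILetI false
set_option maxHeartbeats 2000000

open Matrix
open scoped TensorProduct

noncomputable section

namespace Groth.Agent.DetSmoothLib

universe u

/-- A product through a space of dimension `r` has vanishing minors of size `r + 1`. -/
theorem det_submatrix_mul_eq_zero {R : Type*} [CommRing R] {n m r : ℕ} (A : Matrix (Fin n) (Fin r) R)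
    (W : Matrix (Fin r) (Fin m) R) (f : Fin (r + 1) → Fin n) (g : Fin (r + 1) → Fin m) :
    ((A * W).submatrix f g).det = 0 := by
  let A' : Matrix (Fin (r + 1)) (Fin (r + 1)) R := Matrix.of fun i => Fin.snoc (fun j => A (f i) j) 0
  let W' : Matrix (Fin (r + 1)) (Fin (r + 1)) R :=
    Matrix.of (Fin.snoc (fun j => fun l => W j (g l)) (fun _ => 0))
  have h : (A * W).submatrix f g = A' * W' := by
    ext i l
    simp only [Matrix.submatrix_apply, Matrix.mul_apply, A', W', Matrix.of_apply, Fin.sum_univ_castSucc,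
      Fin.snoc_castSucc, Fin.snoc_last, zero_mul, add_zero]
  rw [h, Matrix.det_mul, Matrix.det_eq_zero_of_column_eq_zero (Fin.last r) (fun i => by simp [A']), zero_mul]

/-- Where a minor of size `r` is invertible and those of size `r + 1` vanish, a matrix factors through it. -/
theorem entry_eq_of_minors {R : Type*} [CommRing R] {n m r : ℕ} (Z : Matrix (Fin n) (Fin m) R)
    (σ : Fin r → Fin n) (τ : Fin r → Fin m) (hu : IsUnit (Z.submatrix σ τ).det)
    (h0 : ∀ (f : Fin (r + 1) → Fin n) (g : Fin (r + 1) → Fin m), (Z.submatrix f g).det = 0) (i : Fin n) (j : Fin m) :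
    Z i j = (Z.submatrix id τ * ((Z.submatrix σ τ)⁻¹ * Z.submatrix σ id)) i j := by
  let M := Z.submatrix σ τ
  haveI : Invertible M := M.invertibleOfIsUnitDet hu
  let B : Matrix (Fin r) (Fin 1) R := Z.submatrix σ ![j]
  let C : Matrix (Fin 1) (Fin r) R := Z.submatrix ![i] τ
  let D : Matrix (Fin 1) (Fin 1) R := Z.submatrix ![i] ![j]
  have hb : fromBlocks M B C D = Z.submatrix (Sum.elim σ ![i]) (Sum.elim τ ![j]) := by
    ext (a | a) (b | b) <;> rfl
  have hz : (fromBlocks M B C D).det = 0 := by
    rw [hb, ← Matrix.det_submatrix_equiv_self (finSumFinEquiv (m := r) (n := 1)).symm]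
    exact h0 _ _
  rw [Matrix.det_fromBlocks₁₁, hu.mul_right_eq_zero, Matrix.det_fin_one, Matrix.sub_apply, sub_eq_zero,
    Matrix.invOf_eq_nonsing_inv, Matrix.mul_assoc] at hz
  calc Z i j = D 0 0 := rfl
    _ = (C * (M⁻¹ * B)) 0 0 := hz
    _ = _ := by
      simp only [Matrix.mul_apply, C, B, M, Matrix.submatrix_apply, id_eq, Matrix.cons_val_zero]

/-- A matrix factors through an invertible minor after a ring map killing the minors of the next size. -/
theorem map_entry_eq {S A : Type*} [CommRing S] [CommRing A] {n m r : ℕ} (π : S →+* A) (Z : Matrix (Fin n) (Fin m) S)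
    (σ : Fin r → Fin n) (τ : Fin r → Fin m) (hu : IsUnit (Z.submatrix σ τ).det)
    (h0 : ∀ (f : Fin (r + 1) → Fin n) (g : Fin (r + 1) → Fin m), π (Z.submatrix f g).det = 0) (i : Fin n) (j : Fin m) :
    π ((Z.submatrix id τ * ((Z.submatrix σ τ)⁻¹ * Z.submatrix σ id)) i j) = π (Z i j) := by
  let ZA := Z.map π
  have hud : IsUnit (ZA.submatrix σ τ).det := by
    rw [show ZA.submatrix σ τ = π.mapMatrix (Z.submatrix σ τ) from rfl, ← RingHom.map_det]
    exact hu.map π
  have h := entry_eq_of_minors ZA σ τ hud (fun f g => by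
    rw [show ZA.submatrix f g = π.mapMatrix (Z.submatrix f g) from rfl, ← RingHom.map_det]
    exact h0 f g) i j
  have hinv : ((Z.submatrix σ τ)⁻¹).map π = (ZA.submatrix σ τ)⁻¹ :=
    (Matrix.inv_eq_right_inv (show ZA.submatrix σ τ * ((Z.submatrix σ τ)⁻¹).map π = 1 by
      rw [show ZA.submatrix σ τ = (Z.submatrix σ τ).map π from rfl, ← Matrix.map_mul,
        Matrix.mul_nonsing_inv _ hu, Matrix.map_one π (map_zero π) (map_one π)])).symm
  show ((Z.submatrix id τ * ((Z.submatrix σ τ)⁻¹ * Z.submatrix σ id)).map π) i j = π (Z i j)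
  rw [Matrix.map_mul, Matrix.map_mul, hinv]
  exact h.symm

/-- The differential of a minor of size `r + 1` lies in the ideal of minors of size `r`. -/
theorem derivation_det_mem {R S N : Type*} [CommRing R] [CommRing S] [Algebra R S] [AddCommGroup N] [Module S N]
    [Module R N] [IsScalarTower R S N] (D : Derivation R S N) {r : ℕ} (M : Matrix (Fin (r + 1)) (Fin (r + 1)) S)
    (J : Ideal S) (hJ : ∀ k i : Fin (r + 1), (M.submatrix k.succAbove i.succAbove).det ∈ J) :
    D M.det ∈ (J • ⊤ : Submodule S N) := by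
  have hc : ∀ i k : Fin (r + 1), (M.updateCol i (Pi.single k 1)).det ∈ J := fun i k => by
    rw [Matrix.det_succ_column _ i]
    refine J.sum_mem fun l _ => ?_
    rw [Matrix.submatrix_updateCol_succAbove]
    exact J.mul_mem_left _ (hJ l i)
  have key : D M.det = ∑ i, ∑ k, (M.updateCol i (Pi.single k 1)).det • D (M k i) := by
    have hp : ∀ (t : Finset (Fin (r + 1))) (g : Fin (r + 1) → S),
        D (∏ i ∈ t, g i) = ∑ i ∈ t, (∏ j ∈ t.erase i, g j) • D (g i) := by
      intro t g
      classical
      induction t using Finset.induction_on with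
      | empty => simp
      | insert a t ha ih =>
        rw [Finset.prod_insert ha, D.leibniz, ih, Finset.sum_insert ha, Finset.erase_insert ha, Finset.smul_sum,
          add_comm]
        congr 1
        refine Finset.sum_congr rfl fun i hi => ?_
        rw [Finset.erase_insert_of_ne (show a ≠ i from fun e => ha (e.symm ▸ hi)), Finset.prod_insert (fun e => ha (Finset.mem_of_mem_erase e)),
          mul_smul]
    have hdet : ∀ i k, (M.updateCol i (Pi.single k 1)).det =
        ∑ σ : Equiv.Perm (Fin (r + 1)), Equiv.Perm.sign σ •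
          (if σ i = k then ∏ j ∈ Finset.univ.erase i, M (σ j) j else 0) := fun i k => by
      rw [Matrix.det_apply]
      refine Finset.sum_congr rfl fun σ _ => congrArg _ ?_
      rw [← Finset.mul_prod_erase _ _ (Finset.mem_univ i), Matrix.updateCol_self]
      rw [Finset.prod_congr rfl fun j hj => Matrix.updateCol_ne (Finset.ne_of_mem_erase hj)]
      by_cases h : σ i = k
      · rw [if_pos h, h, Pi.single_eq_same, one_mul]
      · rw [if_neg h, Pi.single_eq_of_ne h, zero_mul]
    calc D M.det = ∑ σ : Equiv.Perm (Fin (r + 1)), ∑ i,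
          (Equiv.Perm.sign σ • ∏ j ∈ Finset.univ.erase i, M (σ j) j) • D (M (σ i) i) := by
            rw [Matrix.det_apply, map_sum]
            refine Finset.sum_congr rfl fun σ _ => ?_
            rw [Units.smul_def, map_zsmul, hp, Finset.smul_sum]
            exact Finset.sum_congr rfl fun i _ => (smul_assoc _ _ _).symm
      _ = _ := by
            rw [Finset.sum_comm]
            refine Finset.sum_congr rfl fun i _ => ?_
            simp only [hdet, Finset.sum_smul]
            rw [Finset.sum_comm]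
            refine Finset.sum_congr rfl fun σ _ => ?_
            simp only [smul_ite, smul_zero, ite_smul, zero_smul, Finset.sum_ite_eq, Finset.mem_univ, if_true]
  rw [key]
  exact Submodule.sum_mem _ fun i _ => Submodule.sum_mem _ fun k _ => Submodule.smul_mem_smul (hc i k) Submodule.mem_top

/-- A quotient of a formally smooth local algebra by relations with differentials vanishing at the closed point is not
formally smooth, unless the relations are zero. -/
theorem not_formallySmooth (k : Type*) {S A : Type*} [CommRing k] [CommRing S] [CommRing A] [Algebra k S] [Algebra k A]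
    [Algebra.FormallySmooth k S] [IsLocalRing S] [IsNoetherianRing S]
    [Nontrivial A] (π : S →ₐ[k] A) (hsurj : Function.Surjective π) {ι : Type*} (g : ι → S)
    (hker : RingHom.ker π.toRingHom = Ideal.span (Set.range g))
    (hD : ∀ i, KaehlerDifferential.D k S (g i) ∈ (IsLocalRing.maximalIdeal S • ⊤ : Submodule S (Ω[S⁄k])))
    (hne : ∃ i, g i ≠ 0) : ¬ Algebra.FormallySmooth k A := by
  intro hsm
  letI : Algebra S A := π.toRingHom.toAlgebra
  haveI : IsScalarTower k S A := IsScalarTower.of_algHom π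
  obtain ⟨l, hl⟩ := (Algebra.FormallySmooth.iff_split_injection (R := k) (P := S) (A := A) hsurj).1 hsm
  let K := RingHom.ker (algebraMap S A)
  let 𝔪 := IsLocalRing.maximalIdeal S
  have hgen : ∀ (x : K) (i : ι), g i = x → K.toCotangent x ∈ (𝔪 • ⊤ : Submodule S K.Cotangent) := by
    intro x i hx
    have h1 : KaehlerDifferential.kerCotangentToTensor k S A (K.toCotangent x) ∈
        (𝔪 • ⊤ : Submodule S (A ⊗[S] Ω[S⁄k])) := by
      have h0 := Submodule.smul_top_le_comap_smul_top 𝔪 ((TensorProduct.mk S A Ω[S⁄k]) 1) (hD i)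
      rw [hx] at h0
      exact h0
    have h2 : l (KaehlerDifferential.kerCotangentToTensor k S A (K.toCotangent x)) ∈
        (𝔪 • ⊤ : Submodule S K.Cotangent) :=
      Submodule.smul_top_le_comap_smul_top 𝔪 l h1
    rwa [show l (KaehlerDifferential.kerCotangentToTensor k S A (K.toCotangent x)) = K.toCotangent x from
      DFunLike.congr_fun hl _] at h2
  have htop : (⊤ : Submodule S K.Cotangent) ≤ 𝔪 • ⊤ := by
    intro c _
    obtain ⟨⟨x, hxK⟩, rfl⟩ := K.toCotangent_surjective c
    have key : ∀ y ∈ Ideal.span (Set.range g), ∀ hy : y ∈ K, K.toCotangent ⟨y, hy⟩ ∈ (𝔪 • ⊤ : Submodule S K.Cotangent) := by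
      intro y hy
      induction hy using Submodule.span_induction with
      | mem y hy =>
        intro hyK
        obtain ⟨i, rfl⟩ := hy
        exact hgen _ i rfl
      | zero =>
        intro hyK
        rw [show (⟨0, hyK⟩ : K) = 0 from rfl, map_zero]
        exact Submodule.zero_mem _
      | add a b ha hb iha ihb =>
        intro hyK
        rw [show (⟨a + b, hyK⟩ : K) = ⟨a, hker.ge ha⟩ + ⟨b, hker.ge hb⟩ from rfl, map_add]
        exact Submodule.add_mem _ (iha _) (ihb _)
      | smul c a ha iha =>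
        intro hyK
        rw [show (⟨c • a, hyK⟩ : K) = c • ⟨a, hker.ge ha⟩ from rfl, map_smul]
        exact Submodule.smul_mem _ c (iha _)
    exact key x (hker.le hxK) hxK
  have hjac : 𝔪 ≤ Ideal.jacobson ⊥ := (IsLocalRing.jacobson_eq_maximalIdeal ⊥ bot_ne_top).ge
  haveI : Module.Finite S K.Cotangent := Module.Finite.of_surjective K.toCotangent K.toCotangent_surjective
  have hsub : (⊤ : Submodule S K.Cotangent) = ⊥ :=
    Submodule.eq_bot_of_le_smul_of_le_jacobson_bot 𝔪 _ Module.Finite.fg_top htop hjac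
  have hKK : IsIdempotentElem K :=
    (Ideal.cotangent_subsingleton_iff K).1 (subsingleton_of_forall_eq 0 fun a =>
      (Submodule.mem_bot S).1 (hsub.le (Submodule.mem_top : a ∈ _)))
  have hK0 : K = ⊥ := Submodule.eq_bot_of_le_smul_of_le_jacobson_bot K K (IsNoetherian.noetherian K)
    (by rw [smul_eq_mul]; exact hKK.symm.le) ((IsLocalRing.le_maximalIdeal (RingHom.ker_ne_top _)).trans hjac)
  obtain ⟨i, hi⟩ := hne
  exact hi ((Submodule.mem_bot S).1 (hK0.le (hker.ge (Ideal.subset_span ⟨i, rfl⟩))))

/-- The generic determinantal ring is smooth exactly off the locus of smaller rank. -/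
theorem smooth_iff (k : Type u) [Field k] (n m r : ℕ) (hr : r < min n m) (I J : Ideal (MvPolynomial (Fin n × Fin m) k))
    (hI : I = CAlgX.minorIdeal (Matrix.of fun (i : Fin n) (j : Fin m) => (MvPolynomial.X (i, j) : MvPolynomial (Fin n × Fin m) k)) (r + 1))
    (hJ : J = CAlgX.minorIdeal (Matrix.of fun (i : Fin n) (j : Fin m) => (MvPolynomial.X (i, j) : MvPolynomial (Fin n × Fin m) k)) r)
    (P : PrimeSpectrum (MvPolynomial (Fin n × Fin m) k ⧸ I)) :
    P ∈ Algebra.smoothLocus k (MvPolynomial (Fin n × Fin m) k ⧸ I) ↔ ¬ J.map (Ideal.Quotient.mk I) ≤ P.asIdeal := by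
  classical
  let P0 := MvPolynomial (Fin n × Fin m) k
  let Z : Matrix (Fin n) (Fin m) P0 := Matrix.of fun i j => MvPolynomial.X (i, j)
  let B := P0 ⧸ I
  let 𝔓 : Ideal P0 := P.asIdeal.comap (Ideal.Quotient.mk I)
  haveI : 𝔓.IsPrime := Ideal.IsPrime.comap _
  let S := Localization.AtPrime 𝔓
  let A' := Localization.AtPrime P.asIdeal
  let π₀ : S →+* A' := Localization.localRingHom 𝔓 P.asIdeal (Ideal.Quotient.mk I) rfl
  have hπ₀ : ∀ a : P0, π₀ (algebraMap P0 S a) = algebraMap B A' (Ideal.Quotient.mk I a) := fun a =>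
    Localization.localRingHom_to_map _ _ _ _ a
  let π : S →ₐ[k] A' :=
    { π₀ with
      commutes' := fun c => by
        show π₀ (algebraMap k S c) = algebraMap k A' c
        rw [IsScalarTower.algebraMap_apply k P0 S, hπ₀, IsScalarTower.algebraMap_apply k B A']
        rfl }
  have hsurj : Function.Surjective π := fun x => by
    obtain ⟨b, ⟨s, hs⟩, rfl⟩ := IsLocalization.exists_mk'_eq P.asIdeal.primeCompl x
    obtain ⟨b, rfl⟩ := Ideal.Quotient.mk_surjective b
    obtain ⟨s, rfl⟩ := Ideal.Quotient.mk_surjective s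
    exact ⟨IsLocalization.mk' S b (⟨s, hs⟩ : 𝔓.primeCompl), Localization.localRingHom_mk' 𝔓 P.asIdeal (Ideal.Quotient.mk I) rfl b ⟨s, hs⟩⟩
  haveI : IsLocalHom π.toRingHom := Localization.isLocalHom_localRingHom 𝔓 P.asIdeal (Ideal.Quotient.mk I) rfl
  have hminor : ∀ (f : Fin (r + 1) → Fin n) (g : Fin (r + 1) → Fin m), (Z.submatrix f g).det ∈ I := fun f g => by
    rw [hI]
    exact Ideal.subset_span ⟨(f, g), rfl⟩
  have hker : RingHom.ker π₀ = I.map (algebraMap P0 S) := by
    refine le_antisymm (fun x hx => ?_) (Ideal.map_le_iff_le_comap.2 fun a ha => ?_)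
    · obtain ⟨a, ⟨s, hs⟩, rfl⟩ := IsLocalization.exists_mk'_eq 𝔓.primeCompl x
      have hx' : IsLocalization.mk' A' (Ideal.Quotient.mk I a) (⟨Ideal.Quotient.mk I s, hs⟩ : P.asIdeal.primeCompl) = 0 := by
        rw [← RingHom.mem_ker.1 hx]
        exact (Localization.localRingHom_mk' 𝔓 P.asIdeal (Ideal.Quotient.mk I) rfl a ⟨s, hs⟩).symm
      obtain ⟨⟨t, ht⟩, hta⟩ := (IsLocalization.mk'_eq_zero_iff _ _).1 hx'
      obtain ⟨t, rfl⟩ := Ideal.Quotient.mk_surjective t
      rw [IsLocalization.mk'_mem_map_algebraMap_iff]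
      refine ⟨t, ht, ?_⟩
      rw [← Ideal.Quotient.eq_zero_iff_mem, map_mul]
      exact hta
    · show π₀ (algebraMap P0 S a) = 0
      rw [hπ₀, Ideal.Quotient.eq_zero_iff_mem.2 ha, map_zero]
  haveI : Algebra.FormallySmooth P0 S := Algebra.FormallySmooth.of_isLocalization 𝔓.primeCompl
  haveI : Algebra.FormallySmooth k S := Algebra.FormallySmooth.comp k P0 S
  show Algebra.FormallySmooth k A' ↔ _
  constructor
  · intro hsm hle
    let gen : (Fin (r + 1) → Fin n) × (Fin (r + 1) → Fin m) → S := fun fg => algebraMap P0 S (Z.submatrix fg.1 fg.2).det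
    have hspan : RingHom.ker π.toRingHom = Ideal.span (Set.range gen) := by
      rw [show RingHom.ker π.toRingHom = RingHom.ker π₀ from rfl, hker, hI, CAlgX.minorIdeal,
        Ideal.map_span, ← Set.range_comp]
      rfl
    have hn : r + 1 ≤ n := Nat.succ_le_of_lt (hr.trans_le (min_le_left _ _))
    have hm : r + 1 ≤ m := Nat.succ_le_of_lt (hr.trans_le (min_le_right _ _))
    refine not_formallySmooth k π hsurj gen hspan (fun fg => ?_) ⟨(Fin.castLE hn, Fin.castLE hm), ?_⟩ hsm
    · have hdet : ((Z.submatrix fg.1 fg.2).map (algebraMap P0 S)).det = gen fg := ((algebraMap P0 S).map_det _).symm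
      rw [← hdet]
      refine derivation_det_mem (KaehlerDifferential.D k S) _ _ fun a b => ?_
      rw [Matrix.submatrix_map, Matrix.submatrix_submatrix, ← RingHom.mapMatrix_apply, ← RingHom.map_det]
      refine (IsLocalization.AtPrime.to_map_mem_maximal_iff S 𝔓 _).2 (hle (Ideal.mem_map_of_mem _ ?_))
      rw [hJ]
      exact Ideal.subset_span ⟨(fg.1 ∘ a.succAbove, fg.2 ∘ b.succAbove), rfl⟩
    · intro h
      let M0 := Z.submatrix (Fin.castLE hn) (Fin.castLE hm)
      have h0 : M0.det = 0 := IsLocalization.injective S 𝔓.primeCompl_le_nonZeroDivisors (h.trans (map_zero _).symm)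
      let e : Fin n × Fin m → k := fun ij => if (ij.1 : ℕ) = ij.2 then 1 else 0
      have h2 := congrArg (MvPolynomial.eval e) h0
      rw [RingHom.map_det, map_zero] at h2
      have h3 : (MvPolynomial.eval e).mapMatrix M0 = 1 := by
        ext a b
        simp [M0, Z, e, Matrix.one_apply, Fin.ext_iff]
      rw [h3, Matrix.det_one] at h2
      exact one_ne_zero h2
  · intro hnle
    obtain ⟨σ, τ, hστ⟩ : ∃ (σ : Fin r → Fin n) (τ : Fin r → Fin m), (Z.submatrix σ τ).det ∉ 𝔓 := by
      by_contra hall
      push Not at hall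
      refine hnle (Ideal.map_le_iff_le_comap.2 ?_)
      rw [hJ, CAlgX.minorIdeal, Ideal.span_le]
      rintro _ ⟨⟨σ, τ⟩, rfl⟩
      exact hall σ τ
    let ZS : Matrix (Fin n) (Fin m) S := Z.map (algebraMap P0 S)
    have hu : IsUnit (ZS.submatrix σ τ).det := by
      rw [show ZS.submatrix σ τ = (Z.submatrix σ τ).map (algebraMap P0 S) from rfl,
        ← RingHom.mapMatrix_apply, ← RingHom.map_det]
      exact IsLocalization.map_units S (⟨_, hστ⟩ : 𝔓.primeCompl)
    let Q : Matrix (Fin n) (Fin m) S := ZS.submatrix id τ * ((ZS.submatrix σ τ)⁻¹ * ZS.submatrix σ id)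
    let ψ₀ : P0 →ₐ[k] S := MvPolynomial.aeval fun ij => Q ij.1 ij.2
    have hψI : ∀ a ∈ I, ψ₀ a = 0 := fun a ha => by
      have hle : I ≤ RingHom.ker ψ₀.toRingHom := by
        rw [hI, CAlgX.minorIdeal, Ideal.span_le]
        rintro _ ⟨⟨f, g⟩, rfl⟩
        show ψ₀.toRingHom (Z.submatrix f g).det = 0
        rw [RingHom.map_det, show ψ₀.toRingHom.mapMatrix (Z.submatrix f g) = Q.submatrix f g by
          ext a b; exact MvPolynomial.aeval_X _ _]
        exact det_submatrix_mul_eq_zero _ _ f g
      exact hle ha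
    have hZA : ∀ i j, π₀ (Q i j) = π₀ (algebraMap P0 S (Z i j)) := fun i j =>
      map_entry_eq (S := S) (A := A') π₀ ZS σ τ hu (fun f g => by
        rw [show ZS.submatrix f g = (algebraMap P0 S).mapMatrix (Z.submatrix f g) from rfl, ← RingHom.map_det]
        have hm : algebraMap P0 S (Z.submatrix f g).det ∈ I.map (algebraMap P0 S) := Ideal.mem_map_of_mem _ (hminor f g)
        rw [← hker] at hm
        exact RingHom.mem_ker.1 hm) i j
    have hψX : ∀ ij, ψ₀ (MvPolynomial.X ij) = Q ij.1 ij.2 := fun ij => MvPolynomial.aeval_X _ _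
    have hψC : ∀ c, ψ₀ (MvPolynomial.C c) = algebraMap P0 S (MvPolynomial.C c) := fun c => by
      rw [MvPolynomial.aeval_C]
      exact IsScalarTower.algebraMap_apply k P0 S c
    have hcomp : ∀ a, π₀ (ψ₀ a) = π₀ (algebraMap P0 S a) := fun a => by
      induction a using MvPolynomial.induction_on with
      | C c => rw [hψC]
      | add p q hp hq => rw [map_add, map_add, map_add, map_add, hp, hq]
      | mul_X p ij hp =>
        rw [map_mul, map_mul, map_mul, map_mul, hp, hψX]
        exact congrArg _ (hZA ij.1 ij.2)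
    let ψ₁ : B →ₐ[k] S := Ideal.Quotient.liftₐ I ψ₀ hψI
    have hunit : ∀ y : P.asIdeal.primeCompl, IsUnit (ψ₁ y) := by
      rintro ⟨y, hy⟩
      obtain ⟨y, rfl⟩ := Ideal.Quotient.mk_surjective y
      have h1 : IsUnit (π₀ (ψ₀ y)) := by
        rw [hcomp]
        exact (IsLocalization.map_units S (⟨y, hy⟩ : 𝔓.primeCompl)).map π₀
      haveI : IsLocalHom π₀ := Localization.isLocalHom_localRingHom 𝔓 P.asIdeal (Ideal.Quotient.mk I) rfl
      exact IsLocalHom.map_nonunit (f := π₀) _ h1
    let ψ : A' →ₐ[k] S := IsLocalization.liftAlgHom (M := P.asIdeal.primeCompl) hunit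
    refine Algebra.FormallySmooth.of_split π ((Ideal.Quotient.mkₐ k _).comp ψ) ?_
    refine IsLocalization.algHom_ext P.asIdeal.primeCompl (AlgHom.ext fun b => ?_)
    obtain ⟨b, rfl⟩ := Ideal.Quotient.mk_surjective b
    show π₀ (ψ (algebraMap B A' (Ideal.Quotient.mk I b))) = algebraMap B A' (Ideal.Quotient.mk I b)
    rw [show ψ (algebraMap B A' (Ideal.Quotient.mk I b)) = ψ₁ (Ideal.Quotient.mk I b) from
      IsLocalization.lift_eq hunit _, ← hπ₀]
    exact hcomp b

end Groth.Agent.DetSmoothLib
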